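import Mathlib
import Cfsg.Agent.Lib.Helper5.CommP.Eig

set_option autoImplicit false

/-! Eigenspaces of a matrix that is unitary with respect to a field automorphism: the
eigenvalues `l` and `(ψ l)⁻¹` have eigenspaces of the same dimension. -/

namespace Cfsg.Agent.Lib.Helper5.CommP

open Module Module.End Matrix

variable {K : Type*} [Field K] {m : ℕ}

theorem finrank_ker_add_rank (A : Matrix (Fin m) (Fin m) K) :
    finrank K (LinearMap.ker (Matrix.toLin' A)) + A.rank = m := by
  have h := LinearMap.finrank_range_add_finrank_ker (Matrix.toLin' A)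
  rw [Module.finrank_fin_fun] at h
  have h2 : A.rank = finrank K (LinearMap.range (Matrix.toLin' A)) := rfl
  omega

theorem eigenspace_toLin' (A : Matrix (Fin m) (Fin m) K) (l : K) :
    eigenspace (Matrix.toLin' A) l = LinearMap.ker (Matrix.toLin' (A - l • 1)) := by
  rw [eigenspace_def, map_sub, map_smul, Matrix.toLin'_one]
  rfl

theorem finrank_eigenspace_transpose (A : Matrix (Fin m) (Fin m) K) (l : K) :
    finrank K (eigenspace (Matrix.toLin' Aᵀ) l) = finrank K (eigenspace (Matrix.toLin' A) l) := by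
  rw [eigenspace_toLin', eigenspace_toLin']
  have h1 := finrank_ker_add_rank (Aᵀ - l • 1)
  have h2 := finrank_ker_add_rank (A - l • 1)
  have h3 : (Aᵀ - l • (1 : Matrix (Fin m) (Fin m) K)) = (A - l • 1)ᵀ := by
    rw [Matrix.transpose_sub, Matrix.transpose_smul, Matrix.transpose_one]
  have hr : (Aᵀ - l • (1 : Matrix (Fin m) (Fin m) K)).rank = (A - l • 1).rank := by
    rw [h3, Matrix.rank_transpose]
  omega

theorem finrank_ker_le_of_semilinear (ψ : K →+* K) (hψ : Function.Surjective ψ)
    (M N : Matrix (Fin m) (Fin m) K)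
    (h : ∀ v : Fin m → K, M *ᵥ v = 0 → N *ᵥ (fun i => ψ (v i)) = 0) :
    finrank K (LinearMap.ker (Matrix.toLin' M)) ≤ finrank K (LinearMap.ker (Matrix.toLin' N)) := by
  classical
  set d := finrank K (LinearMap.ker (Matrix.toLin' M)) with hd
  let b : Basis (Fin d) K (LinearMap.ker (Matrix.toLin' M)) := Module.finBasis K _
  have hbm : ∀ i, M *ᵥ ((b i : Fin m → K)) = 0 := by
    intro i
    have := (b i).2
    rw [LinearMap.mem_ker, Matrix.toLin'_apply] at this
    exact this
  let w : Fin d → ↥(LinearMap.ker (Matrix.toLin' N)) := fun i =>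
    ⟨fun j => ψ ((b i : Fin m → K) j), by
      rw [LinearMap.mem_ker, Matrix.toLin'_apply]
      exact h _ (hbm i)⟩
  have hli : LinearIndependent K w := by
    rw [Fintype.linearIndependent_iff]
    intro c hc
    choose e he using fun i => hψ (c i)
    have h1 : ∀ j : Fin m, ψ ((∑ i, e i • (b i : Fin m → K)) j) = 0 := by
      intro j
      have h2 := congrArg (fun x : ↥(LinearMap.ker (Matrix.toLin' N)) => (x : Fin m → K) j) hc
      simp only [w, Submodule.coe_sum, Submodule.coe_smul, Finset.sum_apply, Pi.smul_apply,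
        smul_eq_mul, Submodule.coe_zero, Pi.zero_apply] at h2
      rw [Finset.sum_apply, map_sum]
      rw [← h2]
      apply Finset.sum_congr rfl
      intro i _
      rw [Pi.smul_apply, smul_eq_mul, map_mul, he]
    have h3 : ∑ i, e i • (b i : Fin m → K) = 0 := by
      ext j
      exact (map_eq_zero ψ).mp (h1 j)
    have h4 : ∑ i, e i • b i = 0 := by
      apply Subtype.ext
      rw [Submodule.coe_sum]
      simpa using h3
    have h5 := (Fintype.linearIndependent_iff.mp b.linearIndependent) e h4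
    intro i
    rw [← he i, h5 i, map_zero]
  have := hli.fintype_card_le_finrank
  simpa using this

/-- eigenspace dimensions of a `ψ`-unitary matrix are monotone along `l ↦ (ψ l)⁻¹` -/
theorem finrank_eigenspace_le_dual (ψ : K →+* K) (hψ : Function.Surjective ψ)
    (B : Matrix (Fin m) (Fin m) K) (hU : Bᵀ * B.map ψ = 1) (l : K) (hl : l ≠ 0) :
    finrank K (eigenspace (Matrix.toLin' B) l) ≤
      finrank K (eigenspace (Matrix.toLin' B) (ψ l)⁻¹) := by
  rw [← finrank_eigenspace_transpose B (ψ l)⁻¹, eigenspace_toLin', eigenspace_toLin']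
  apply finrank_ker_le_of_semilinear ψ hψ
  intro v hv
  have hψl : ψ l ≠ 0 := (map_ne_zero ψ).mpr hl
  have hBv : B *ᵥ v = l • v := by
    rw [Matrix.sub_mulVec, Matrix.smul_mulVec, Matrix.one_mulVec, sub_eq_zero] at hv
    exact hv
  have h1 : B.map ψ *ᵥ (fun i => ψ (v i)) = ψ l • (fun i => ψ (v i)) := by
    ext i
    have := RingHom.map_mulVec ψ B v i
    rw [hBv, Pi.smul_apply, smul_eq_mul, map_mul] at this
    exact this.symm
  have h2 : Bᵀ *ᵥ (B.map ψ *ᵥ (fun i => ψ (v i))) = (fun i => ψ (v i)) := by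
    rw [Matrix.mulVec_mulVec, hU, Matrix.one_mulVec]
  rw [h1, Matrix.mulVec_smul] at h2
  rw [Matrix.sub_mulVec, Matrix.smul_mulVec, Matrix.one_mulVec, sub_eq_zero]
  have h3 : Bᵀ *ᵥ (fun i => ψ (v i)) = (ψ l)⁻¹ • (ψ l • Bᵀ *ᵥ (fun i => ψ (v i))) := by
    rw [smul_smul, inv_mul_cancel₀ hψl, one_smul]
  rw [h3, h2]

end Cfsg.Agent.Lib.Helper5.CommP
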