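import Mathlib
import Cfsg.Agent.Lib.Helper5.CommP.Dual

set_option autoImplicit false

/-! A unitary matrix of prime order `r` with many distinct eigenvalue orbits commutes with no
non-zero nilpotent matrix. -/

namespace Cfsg.Agent.Lib.Helper5.CommP

open Module Module.End Matrix

variable {K : Type*} [Field K] {m : ℕ}

theorem iterate_ne_zero (ψ : K →+* K) (l : K) (hl : l ≠ 0) (i : ℕ) :
    (fun x => (ψ x)⁻¹)^[i] l ≠ 0 := by
  induction i with
  | zero => exact hl
  | succ k ih =>
    rw [Function.iterate_succ_apply']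
    exact inv_ne_zero ((map_ne_zero ψ).mpr ih)

theorem finrank_eigenspace_le_iterate (ψ : K →+* K) (hψ : Function.Surjective ψ)
    (B : Matrix (Fin m) (Fin m) K) (hU : Bᵀ * B.map ψ = 1) (l : K) (hl : l ≠ 0) (i : ℕ) :
    finrank K (eigenspace (Matrix.toLin' B) l) ≤
      finrank K (eigenspace (Matrix.toLin' B) ((fun x => (ψ x)⁻¹)^[i] l)) := by
  induction i with
  | zero => exact le_refl _
  | succ k ih =>
    rw [Function.iterate_succ_apply']
    exact ih.trans (finrank_eigenspace_le_dual ψ hψ B hU _ (iterate_ne_zero ψ l hl k))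

theorem iterate_ne_one (ψ : K →+* K) (l : K) (hl : l ≠ 1) (i : ℕ) :
    (fun x => (ψ x)⁻¹)^[i] l ≠ 1 := by
  induction i with
  | zero => exact hl
  | succ k ih =>
    rw [Function.iterate_succ_apply']
    intro h
    rw [inv_eq_one] at h
    apply ih
    apply ψ.injective
    rw [h, map_one]

theorem no_commuting_nilpotent [IsAlgClosed K] (hm : 3 ≤ m) (ψ : K →+* K)
    (hψ : Function.Surjective ψ)
    (B : Matrix (Fin m) (Fin m) K) (hU : Bᵀ * B.map ψ = 1) (r : ℕ) (hr : (r : K) ≠ 0)
    (hBr : B ^ r = 1) (hB1 : B ≠ 1) (N : Matrix (Fin m) (Fin m) K) (hNB : N * B = B * N)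
    (hN0 : N ≠ 0) (hNnil : IsNilpotent N)
    (H : ∀ l : K, l ^ r = 1 → l ≠ 1 →
      Set.InjOn (fun i : ℕ => (fun x => (ψ x)⁻¹)^[i] l) (Finset.range (m - 1))) : False := by
  classical
  have hfr : (Matrix.toLin' B) ^ r = 1 := by
    rw [← Matrix.toLin'_pow, hBr, Matrix.toLin'_one]; rfl
  have hf1 : Matrix.toLin' B ≠ 1 := by
    intro h
    apply hB1
    apply Matrix.toLin'.injective
    rw [h, Matrix.toLin'_one]; rfl
  have hc : Matrix.toLin' N * Matrix.toLin' B = Matrix.toLin' B * Matrix.toLin' N := by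
    rw [Module.End.mul_eq_comp, Module.End.mul_eq_comp, ← Matrix.toLin'_mul, ← Matrix.toLin'_mul,
      hNB]
  have hn0 : Matrix.toLin' N ≠ 0 := by
    intro h
    apply hN0
    apply Matrix.toLin'.injective
    rw [h, map_zero]
  have hnil : IsNilpotent (Matrix.toLin' N) := by
    obtain ⟨k, hk⟩ := hNnil
    exact ⟨k, by rw [← Matrix.toLin'_pow, hk, map_zero]⟩
  have hr0 : r ≠ 0 := by rintro rfl; exact hr (by simp)
  have hdim : finrank K (Fin m → K) = m := Module.finrank_fin_fun K
  obtain ⟨z0, hz0r, hz0⟩ := exists_eigenspace_two (Matrix.toLin' B) (Matrix.toLin' N) r hr hfr hc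
    hn0 hnil
  have hne0 : ∀ l : K, l ^ r = 1 → l ≠ 0 := by
    rintro l hl rfl
    rw [zero_pow hr0] at hl
    exact zero_ne_one hl
  -- orbit of an eigenvalue different from `1`
  have horbit : ∀ l : K, l ^ r = 1 → l ≠ 1 → ∀ d : ℕ,
      d ≤ finrank K (eigenspace (Matrix.toLin' B) l) →
      (m - 1) * d ≤ ∑ x ∈ (Finset.range (m - 1)).image (fun i : ℕ => (fun x => (ψ x)⁻¹)^[i] l),
        finrank K (eigenspace (Matrix.toLin' B) x) := by
    intro l hl hl1 d hd
    have hcard : ((Finset.range (m - 1)).image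
        (fun i : ℕ => (fun x => (ψ x)⁻¹)^[i] l)).card = m - 1 := by
      rw [Finset.card_image_of_injOn (H l hl hl1), Finset.card_range]
    have := Finset.card_nsmul_le_sum ((Finset.range (m - 1)).image
        (fun i : ℕ => (fun x => (ψ x)⁻¹)^[i] l))
        (fun x => finrank K (eigenspace (Matrix.toLin' B) x)) d (by
      intro x hx
      obtain ⟨i, _, rfl⟩ := Finset.mem_image.mp hx
      exact hd.trans (finrank_eigenspace_le_iterate ψ hψ B hU l (hne0 l hl) i))
    rwa [hcard, smul_eq_mul] at this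
  by_cases hz1 : z0 = 1
  · subst hz1
    obtain ⟨z1, hz11, hz1r, hz1d⟩ := exists_eigenvalue_ne_one (Matrix.toLin' B) r hr hfr hf1
    have h1 := horbit z1 hz1r hz11 1 hz1d
    have hnotin : (1 : K) ∉ (Finset.range (m - 1)).image
        (fun i : ℕ => (fun x => (ψ x)⁻¹)^[i] z1) := by
      intro h
      obtain ⟨i, _, hi⟩ := Finset.mem_image.mp h
      exact iterate_ne_one ψ z1 hz11 i hi
    have h2 := sum_finrank_eigenspace_le (Matrix.toLin' B)
      (insert (1 : K) ((Finset.range (m - 1)).image (fun i : ℕ => (fun x => (ψ x)⁻¹)^[i] z1)))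
    rw [Finset.sum_insert hnotin, hdim] at h2
    have : (m - 1) * 1 = m - 1 := mul_one _
    omega
  · have h1 := horbit z0 hz0r hz1 2 hz0
    have h2 := sum_finrank_eigenspace_le (Matrix.toLin' B)
      ((Finset.range (m - 1)).image (fun i : ℕ => (fun x => (ψ x)⁻¹)^[i] z0))
    rw [hdim] at h2
    have : (m - 1) * 2 = 2 * m - 2 := by omega
    omega

end Cfsg.Agent.Lib.Helper5.CommP
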