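import Mathlib

set_option autoImplicit false

/-! The orbit of a root of unity of prime order `r` under `l ↦ (l ^ q)⁻¹`. -/

namespace Cfsg.Agent.Lib.Helper5.CommP

variable {K : Type*} [Field K]

theorem sigma_iterate (ψ : K →+* K) (q : ℕ) (hψ : ∀ x, ψ x = x ^ q) (l : K) (i : ℕ) :
    (fun x => (ψ x)⁻¹)^[i] l = l ^ ((-(q : ℤ)) ^ i) := by
  induction i with
  | zero => simp
  | succ k ih =>
    rw [Function.iterate_succ_apply', ih, hψ, pow_succ, zpow_mul, zpow_neg, zpow_natCast]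

theorem injOn_of_not_dvd (r : ℕ) (hr : r.Prime) (q : ℕ) (hrq : ¬ r ∣ q) (M : ℕ)
    (hnd : ∀ k, 1 ≤ k → k ≤ M → ¬ (r : ℤ) ∣ (-(q : ℤ)) ^ k - 1) (l : K) (hl0 : l ≠ 0)
    (hl : orderOf l = r) :
    Set.InjOn (fun i : ℕ => l ^ ((-(q : ℤ)) ^ i)) (Finset.range (M + 1)) := by
  have hrZ : Prime (r : ℤ) := Nat.prime_iff_prime_int.mp hr
  have hnq : ∀ i : ℕ, ¬ (r : ℤ) ∣ (-(q : ℤ)) ^ i := by
    intro i h
    have h1 := hrZ.dvd_of_dvd_pow h
    rw [dvd_neg] at h1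
    exact hrq (Int.natCast_dvd_natCast.mp h1)
  have key : ∀ i j : ℕ, i < j → j < M + 1 →
      l ^ ((-(q : ℤ)) ^ i) = l ^ ((-(q : ℤ)) ^ j) → False := by
    intro i j hij hj h
    have h1 : l ^ ((-(q : ℤ)) ^ j - (-(q : ℤ)) ^ i) = 1 := by
      rw [zpow_sub₀ hl0, h, div_self (zpow_ne_zero _ hl0)]
    have h1u : (Units.mk0 l hl0) ^ ((-(q : ℤ)) ^ j - (-(q : ℤ)) ^ i) = 1 := by
      apply Units.ext
      rw [Units.val_zpow_eq_zpow_val, Units.val_mk0, h1, Units.val_one]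
    have h2 : ((orderOf (Units.mk0 l hl0) : ℕ) : ℤ) ∣ (-(q : ℤ)) ^ j - (-(q : ℤ)) ^ i :=
      orderOf_dvd_iff_zpow_eq_one.mpr h1u
    have hou : orderOf (Units.mk0 l hl0) = r := by
      rw [← orderOf_units, Units.val_mk0, hl]
    rw [hou] at h2
    have h3 : (-(q : ℤ)) ^ j - (-(q : ℤ)) ^ i = (-(q : ℤ)) ^ i * ((-(q : ℤ)) ^ (j - i) - 1) := by
      have : j = i + (j - i) := by omega
      conv_lhs => rw [this, pow_add]
      ring
    rw [h3] at h2
    rcases hrZ.dvd_or_dvd h2 with h4 | h4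
    · exact hnq i h4
    · exact hnd (j - i) (by omega) (by omega) h4
  intro i hi j hj h
  rw [Finset.coe_range, Set.mem_Iio] at hi hj
  rcases lt_trichotomy i j with hlt | heq | hgt
  · exact (key i j hlt hj h).elim
  · exact heq
  · exact (key j i hgt hi h.symm).elim

end Cfsg.Agent.Lib.Helper5.CommP
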