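import Mathlib
import Cfsg.Agent.Lib.Helper5.CommP.Core
import Cfsg.Agent.Lib.Helper5.CommP.Orbit
import Cfsg.Agent.Lib.Helper5.HermCenter
import Cfsg.Agent.Lib.Helper5.Herm

set_option autoImplicit false

/-! A unitary matrix over `F_{q²}` of prime order `r`, where `r` divides no `q^k - (-1)^k` with
`k ≤ m - 2`, commutes with no non-trivial matrix of order `p`. -/

namespace Cfsg.Agent.Lib.Helper5.CommP

open Matrix Cfsg.Agent.Lib.Helper5.HermCenter Cfsg.Agent.Lib.Helper5.Herm

variable {F : Type*} [Field F] [Fintype F] {q : ℕ} (hF : Fintype.card F = q ^ 2)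

include hF in
theorem no_commuting_unipotent (p : ℕ) [Fact p.Prime] [CharP F p] {m : ℕ} (hm : 3 ≤ m)
    (A B : Matrix (Fin m) (Fin m) F) (hUB : IsU q B) (hAB : A * B = B * A) (hA1 : A ≠ 1)
    (hAp : A ^ p = 1) (r : ℕ) (hr : r.Prime) (hrp : r ≠ p) (hBr : B ^ r = 1) (hB1 : B ≠ 1)
    (hnd : ∀ k, 1 ≤ k → k ≤ m - 2 → ¬ (r : ℤ) ∣ (-(q : ℤ)) ^ k - 1) : False := by
  classical
  have hpp : p.Prime := Fact.out
  obtain ⟨p', k, hp', hcp', hq⟩ := exists_char_pow hF
  have hpeq : p' = p := by
    have hcpp : CharP F p := by assumption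
    exact CharP.eq F hcp' hcpp
  subst hpeq
  have hq0 : 0 < q := by have := two_le_q hF; omega
  have hne : Nonempty (Fin m) := ⟨⟨0, by omega⟩⟩
  let K := AlgebraicClosure F
  have hcK : CharP K p' := charP_of_injective_algebraMap (algebraMap F K).injective p'
  let ψ : K →+* K := iterateFrobenius K p' k
  have hψ : ∀ x, ψ x = x ^ q := fun x => by rw [hq]; exact iterateFrobenius_def p' k x
  have hψs : Function.Surjective ψ := by
    intro y
    obtain ⟨z, hz⟩ := IsAlgClosed.exists_pow_nat_eq y hq0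
    exact ⟨z, by rw [hψ, hz]⟩
  have hinj : Function.Injective (fun M : Matrix (Fin m) (Fin m) F => M.map (algebraMap F K)) :=
    Matrix.map_injective (algebraMap F K).injective
  have hmapmul : ∀ X Y : Matrix (Fin m) (Fin m) F,
      (X * Y).map (algebraMap F K) = X.map (algebraMap F K) * Y.map (algebraMap F K) :=
    fun X Y => Matrix.map_mul
  have hmapone : (1 : Matrix (Fin m) (Fin m) F).map (algebraMap F K) = 1 :=
    Matrix.map_one _ (map_zero _) (map_one _)
  have hmappow : ∀ (X : Matrix (Fin m) (Fin m) F) (j : ℕ),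
      (X ^ j).map (algebraMap F K) = (X.map (algebraMap F K)) ^ j := by
    intro X j
    exact map_pow ((algebraMap F K).mapMatrix) X j
  have hU' : (B.map (algebraMap F K))ᵀ * (B.map (algebraMap F K)).map ψ = 1 := by
    have h1 : (Bᵀ * B.map (· ^ q)).map (algebraMap F K) = 1 := by
      rw [show Bᵀ * B.map (· ^ q) = 1 from hUB, hmapone]
    rw [hmapmul, Matrix.transpose_map] at h1
    rw [← h1]
    congr 1
    ext i j
    simp only [Matrix.map_apply, hψ, map_pow]
  have hrK : ((r : ℕ) : K) ≠ 0 := by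
    intro h
    have h1 := (CharP.cast_eq_zero_iff K p' r).mp h
    exact hrp ((Nat.prime_dvd_prime_iff_eq hp' hr).mp h1).symm
  have hBr' : (B.map (algebraMap F K)) ^ r = 1 := by rw [← hmappow, hBr, hmapone]
  have hB1' : B.map (algebraMap F K) ≠ 1 := by
    intro h
    apply hB1
    apply hinj
    show B.map (algebraMap F K) = (1 : Matrix (Fin m) (Fin m) F).map (algebraMap F K)
    rw [h, hmapone]
  have hN0 : (A - 1).map (algebraMap F K) ≠ 0 := by
    intro h
    apply hA1
    have h1 : A - 1 = 0 := by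
      apply hinj
      show (A - 1).map (algebraMap F K) = (0 : Matrix (Fin m) (Fin m) F).map (algebraMap F K)
      rw [h, Matrix.map_zero _ (map_zero _)]
    exact sub_eq_zero.mp h1
  have hNnil : IsNilpotent ((A - 1).map (algebraMap F K)) := by
    refine ⟨p', ?_⟩
    rw [← hmappow, sub_pow_char_of_commute p' (Commute.one_right A), hAp, one_pow, sub_self,
      Matrix.map_zero _ (map_zero _)]
  have hNB : (A - 1).map (algebraMap F K) * B.map (algebraMap F K) =
      B.map (algebraMap F K) * (A - 1).map (algebraMap F K) := by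
    rw [← hmapmul, ← hmapmul, sub_mul, mul_sub, hAB, one_mul, mul_one]
  have hrq : ¬ r ∣ q := by
    rw [hq]
    intro h
    have h1 := hr.dvd_of_dvd_pow h
    exact hrp ((Nat.prime_dvd_prime_iff_eq hr hp').mp h1)
  apply no_commuting_nilpotent hm ψ hψs (B.map (algebraMap F K)) hU' r hrK hBr' hB1'
    ((A - 1).map (algebraMap F K)) hNB hN0 hNnil
  intro l hl hl1
  have hfr : Fact r.Prime := ⟨hr⟩
  have hord : orderOf l = r := orderOf_eq_prime hl hl1
  have hl0 : l ≠ 0 := by
    rintro rfl
    rw [zero_pow hr.ne_zero] at hl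
    exact zero_ne_one hl
  have hfun : (fun i : ℕ => (fun x => (ψ x)⁻¹)^[i] l) = fun i : ℕ => l ^ ((-(q : ℤ)) ^ i) :=
    funext (fun i => sigma_iterate ψ q hψ l i)
  rw [hfun]
  have hM : m - 1 = (m - 2) + 1 := by omega
  rw [hM]
  exact injOn_of_not_dvd r hr q hrq (m - 2) hnd l hl0 hord

end Cfsg.Agent.Lib.Helper5.CommP
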