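import Mathlib
import Cfsg.Agent.Lib.Helper5.CommP.Descent
import Cfsg.Agent.Lib.Helper5.CommP.Lift
import Cfsg.Agent.Lib.Helper5.HermCard

set_option autoImplicit false
open Cfsg

/-! Elements of `PSU_m(q)` commuting with an element of order `p`. -/

namespace Cfsg.Agent.Lib.Helper5.CommP

open Matrix Cfsg.Agent.Lib.Helper5.HermCenter Cfsg.Agent.Lib.Helper5.Herm
  Cfsg.Agent.Lib.Helper5.HermCard

variable {F : Type*} [Field F] [Fintype F] {q : ℕ} (hF : Fintype.card F = q ^ 2)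

/-- the `i`-th factor of the order of `GU_n(q)` -/
def guFactor (q i : ℕ) : ℕ := if Even i then q ^ (i + 1) + 1 else q ^ (i + 1) - 1

include hF in
theorem guFactor_dvd_card_GU (n i : ℕ) (hi : i < n) :
    guFactor q i ∣ Nat.card ↥(Cfsg.GU n F q) := by
  rw [card_GU hF n]
  apply Dvd.dvd.mul_left
  exact Finset.dvd_prod_of_mem (fun i => if Even i then q ^ (i + 1) + 1 else q ^ (i + 1) - 1)
    (Finset.mem_range.mpr hi)

/-- `r ∣ (-q)^k - 1` gives `r ∣ q^k - (-1)^k` -/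
theorem dvd_guFactor_of_int_dvd (r q k : ℕ) (hk : 1 ≤ k) (hq : 1 ≤ q)
    (h : (r : ℤ) ∣ (-(q : ℤ)) ^ k - 1) : r ∣ guFactor q (k - 1) := by
  obtain ⟨j, rfl⟩ : ∃ j, k = j + 1 := ⟨k - 1, by omega⟩
  rw [Nat.add_sub_cancel]
  unfold guFactor
  have hq1 : 1 ≤ q ^ (j + 1) := Nat.one_le_pow _ _ hq
  by_cases hj : Even j
  · rw [if_pos hj]
    have hodd : Odd (j + 1) := hj.add_one
    rw [hodd.neg_pow] at h
    have h2 : (r : ℤ) ∣ ((q ^ (j + 1) + 1 : ℕ) : ℤ) := by
      have : ((q ^ (j + 1) + 1 : ℕ) : ℤ) = -(-(q : ℤ) ^ (j + 1) - 1) := by push_cast; ring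
      rw [this]
      exact (dvd_neg).mpr h
    exact Int.natCast_dvd_natCast.mp h2
  · rw [if_neg hj]
    have heven : Even (j + 1) := by
      rw [Nat.even_add_one]; exact hj
    rw [heven.neg_pow] at h
    have h2 : (r : ℤ) ∣ ((q ^ (j + 1) - 1 : ℕ) : ℤ) := by
      rw [Nat.cast_sub hq1]
      push_cast
      exact h
    exact Int.natCast_dvd_natCast.mp h2

include hF in
theorem card_SU_eq (n : ℕ) :
    Nat.card ↥(Cfsg.SU (n + 2) F q) = q ^ ((n + 2) * (n + 2 - 1) / 2) *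
      ((∏ i ∈ Finset.range n, guFactor q (i + 2)) * (q ^ 2 - 1)) := by
  have h1 := card_SU hF (n + 2) (by omega)
  rw [card_GU hF (n + 2), Finset.prod_range_succ', Finset.prod_range_succ'] at h1
  have h2 : (if Even 0 then q ^ (0 + 1) + 1 else q ^ (0 + 1) - 1) = q + 1 := by
    rw [if_pos (by decide)]; simp
  have h3 : (if Even (0 + 1) then q ^ (0 + 1 + 1) + 1 else q ^ (0 + 1 + 1) - 1) = q ^ 2 - 1 := by
    rw [if_neg (by decide)]
  rw [h2, h3] at h1
  have h4 : (q + 1) * Nat.card ↥(Cfsg.SU (n + 2) F q) = (q + 1) * (q ^ ((n + 2) * (n + 2 - 1) / 2) *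
      ((∏ i ∈ Finset.range n, guFactor q (i + 2)) * (q ^ 2 - 1))) := by
    rw [h1]
    unfold guFactor
    ring
  exact Nat.eq_of_mul_eq_mul_left (Nat.succ_pos q) h4

theorem psu_commuting_primes {F : Type*} [Field F] [Fintype F] (p : ℕ) [Fact p.Prime]
    [CharP F p] (m q : ℕ) (hm : 4 ≤ m) (hF : Fintype.card F = q ^ 2)
    (a b : Cfsg.PSU m F q) (ha : orderOf a = p) (hab : Commute a b) :
    (orderOf b).primeFactors ⊆ (Nat.card ↥(Cfsg.SU (m - 2) F q)).primeFactors := by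
  have hpp : p.Prime := Fact.out
  have hq2 : 2 ≤ q := two_le_q hF
  intro r hr
  rw [Nat.mem_primeFactors] at hr ⊢
  obtain ⟨hrp, hrb, hb0⟩ := hr
  have hfin : Finite ↥(Cfsg.SU (m - 2) F q) := inferInstance
  have hcard0 : Nat.card ↥(Cfsg.SU (m - 2) F q) ≠ 0 := Nat.card_pos.ne'
  refine ⟨hrp, ?_, hcard0⟩
  obtain ⟨n, hn⟩ : ∃ n, m - 2 = n + 2 := ⟨m - 4, by omega⟩
  have hSU := card_SU hF (m - 2) (by omega)
  -- `r ∤ q + 1` and `r ∣ #GU` give `r ∣ #SU`
  have hfromGU : ¬ r ∣ q + 1 → r ∣ Nat.card ↥(Cfsg.GU (m - 2) F q) →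
      r ∣ Nat.card ↥(Cfsg.SU (m - 2) F q) := by
    intro h1 h2
    rw [← hSU] at h2
    rcases (Nat.Prime.dvd_mul hrp).mp h2 with h3 | h3
    · exact absurd h3 h1
    · exact h3
  by_cases hq1 : r ∣ q + 1
  · rw [hn, card_SU_eq hF n]
    apply Dvd.dvd.mul_left
    apply Dvd.dvd.mul_left
    have : q ^ 2 - 1 = (q + 1) * (q - 1) := by
      obtain ⟨k, rfl⟩ : ∃ k, q = k + 1 := ⟨q - 1, by omega⟩
      simp only [Nat.add_sub_cancel]
      have : (k + 1) ^ 2 = (k + 1 + 1) * k + 1 := by ring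
      rw [this, Nat.add_sub_cancel]
    rw [this]
    exact Dvd.dvd.mul_right hq1 _
  by_cases hrpeq : r = p
  · -- the characteristic
    subst hrpeq
    apply hfromGU hq1
    rw [card_GU hF (m - 2)]
    apply Dvd.dvd.mul_right
    obtain ⟨p', k, hp', hcp', hq⟩ := exists_char_pow hF
    have hpeq : p' = r := by
      have hcpp : CharP F r := by assumption
      exact CharP.eq F hcp' hcpp
    subst hpeq
    have hk : k ≠ 0 := by
      rintro rfl
      rw [hq, pow_zero] at hq2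
      omega
    have h1 : p' ∣ q := by rw [hq]; exact dvd_pow_self p' hk
    apply h1.trans
    apply dvd_pow_self
    have h2 : 2 ≤ (m - 2) * (m - 2 - 1) := by
      have : 2 ≤ m - 2 := by omega
      have : 1 ≤ m - 2 - 1 := by omega
      nlinarith
    omega
  · by_contra hcon
    have hnd : ∀ k, 1 ≤ k → k ≤ m - 2 → ¬ (r : ℤ) ∣ (-(q : ℤ)) ^ k - 1 := by
      intro k hk1 hk2 h
      apply hcon
      apply hfromGU hq1
      exact (dvd_guFactor_of_int_dvd r q k hk1 (by omega) h).trans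
        (guFactor_dvd_card_GU hF (m - 2) (k - 1) (by omega))
    obtain ⟨A, B, hUB, hAB, hA1, hAp, hBr, hB1⟩ :=
      exists_lift hF (by omega) p a b ha hab r hrp hrb hb0 hq1
    exact no_commuting_unipotent hF p (by omega) A B hUB hAB hA1 hAp r hrp hrpeq hBr hB1 hnd

end Cfsg.Agent.Lib.Helper5.CommP
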